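import Groth.Agent.EGA41Cohen.Lift
import Groth.Agent.Cohen.Structure
import Groth.Agent.FSField.Basic
import Groth.Prelude.Def_EGA41

/-!
# Cohen rings: uniqueness and lifting of maps
-/

set_option autoImplicit false
set_option linter.style.haveILetI false
universe u v

open IsLocalRing

namespace Groth.Agent.EGA41Cohen

/-- The data of a Cohen ring of residue characteristic `p`. -/
theorem cohen_spec {W : Type u} [CommRing W] [IsLocalRing W] (hW : CAlg.IsCohenRing W) :
    ∃ (p : ℕ) (_ : IsDomain W), p.Prime ∧ CharP (ResidueField W) p ∧ maximalIdeal W = Ideal.span {(p : W)} ∧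
      (p : W) ≠ 0 ∧ IsAdicComplete (maximalIdeal W) W ∧ IsDiscreteValuationRing W := by
  obtain ⟨hdom, hdvr, hc, p, hp, hmax⟩ := hW
  refine ⟨p, hdom, hp, ?_, hmax, ?_, hc, hdvr⟩
  · haveI := Fact.mk hp
    refine (CharP.charP_iff_prime_eq_zero hp).mpr ?_
    rw [← map_natCast (residue W), residue_eq_zero_iff, hmax]
    exact Ideal.mem_span_singleton_self _
  · intro h
    exact IsDiscreteValuationRing.not_isField W (IsLocalRing.isField_iff_maximalIdeal_eq.mpr (by simp [hmax, h]))

/-- A homomorphism of Cohen rings that is surjective on residue fields is bijective. -/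
theorem hom_bijective {W W' : Type u} [CommRing W] [IsLocalRing W] [CommRing W'] [IsLocalRing W']
    (hW : CAlg.IsCohenRing W) (hW' : CAlg.IsCohenRing W') (θ : W →+* W')
    (hθ : Function.Surjective ((residue W').comp θ)) : Function.Bijective θ := by
  obtain ⟨p, hdom, hp, hch, hmax, hp0, hc, hdvr⟩ := cohen_spec hW
  obtain ⟨q, hdom', hq, hch', hmax', hq0, hc', hdvr'⟩ := cohen_spec hW'
  haveI := hch; haveI := hch'; haveI := hdom; haveI := hdom'; haveI := hc; haveI := hc'
  haveI := hdvr
  have hker : RingHom.ker ((residue W').comp θ) = maximalIdeal W :=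
    eq_maximalIdeal (RingHom.ker_isMaximal_of_surjective _ hθ)
  have hpm : θ (p : W) ∈ maximalIdeal W' := by
    rw [← residue_eq_zero_iff]
    exact RingHom.mem_ker.mp (hker.ge (hmax.ge (Ideal.mem_span_singleton_self _)))
  have hpq : p = q := by
    rw [map_natCast, ← residue_eq_zero_iff, map_natCast, CharP.cast_eq_zero_iff (ResidueField W') q] at hpm
    exact ((Nat.prime_dvd_prime_iff_eq hq hp).mp hpm).symm
  subst hpq
  constructor
  · rw [RingHom.injective_iff_ker_eq_bot]
    by_contra hne
    haveI : (RingHom.ker θ).IsPrime := RingHom.ker_isPrime θ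
    have : RingHom.ker θ = maximalIdeal W :=
      eq_maximalIdeal (Ring.DimensionLEOne.maximalOfPrime hne inferInstance)
    have := RingHom.mem_ker.mp ((this.trans hmax).ge (Ideal.mem_span_singleton_self _))
    rw [map_natCast] at this
    exact hq0 this
  · have hI : (maximalIdeal W).map θ = maximalIdeal W' := by
      rw [hmax, hmax', Ideal.map_span, Set.image_singleton, map_natCast]
    haveI : IsHausdorff ((maximalIdeal W).map θ) W' := by rw [hI]; infer_instance
    refine surjective_of_mk_map_comp_surjective (I := maximalIdeal W) θ fun z => ?_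
    obtain ⟨z, rfl⟩ := Ideal.Quotient.mk_surjective z
    obtain ⟨c, hc⟩ := hθ (residue W' z)
    refine ⟨c, ?_⟩
    rw [RingHom.comp_apply, Ideal.Quotient.eq, hI]
    exact Ideal.Quotient.eq.mp hc

/-- Maps from a Cohen ring to the quotients by powers of the kernel of a surjection onto its residue field. -/
theorem exists_lift_family {W : Type u} [CommRing W] [IsLocalRing W] (hW : CAlg.IsCohenRing W)
    {R : Type u} [CommRing R] (π : R →+* ResidueField W) (hπ : Function.Surjective π) :
    ∃ θ : ∀ n : ℕ, W →+* R ⧸ RingHom.ker π ^ (n + 1),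
      (∀ {j : ℕ}, (Ideal.Quotient.factorPow (RingHom.ker π) (Nat.succ_le_succ j.le_succ)).comp (θ (j + 1)) = θ j) ∧
      ∀ (x : W) (r : R), Ideal.Quotient.mk _ r = θ 0 x → π r = residue W x := by
  obtain ⟨p, hdom, hp, hch, hmax, hp0, hc, hdvr⟩ := cohen_spec hW
  haveI := Fact.mk hp; haveI := hch; haveI := hc
  obtain ⟨B, hB, hgen⟩ := Cohen.exists_indep_generating p (k := ResidueField W)
  have hind := Cohen.indep_all p hB
  obtain ⟨hloc, hcoh, -, -, -⟩ := Cohen.isCohenRing_C p hind hgen
  haveI := hloc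
  haveI : IsAdicComplete (RingHom.ker (residue W)) W := by rw [IsLocalRing.ker_residue]; infer_instance
  obtain ⟨ε, hε⟩ := Cohen.exists_lift p hind (residue W) residue_surjective
  have hεs : Function.Surjective ((residue W).comp ε) := fun a => by
    obtain ⟨x, hx, hx0⟩ := Cohen.exists_mem_C p hgen a
    exact ⟨⟨x, hx⟩, (PerfectClosure.of (ResidueField W) p).injective ((hε _).trans hx0)⟩
  let e := RingEquiv.ofBijective ε (hom_bijective hcoh hW ε hεs)
  obtain ⟨θ, hθ, hres⟩ := exists_lift_mod p hind π hπ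
  refine ⟨fun n => (θ n).comp e.symm.toRingHom, fun {j} => ?_, fun x r h => ?_⟩
  · rw [← RingHom.comp_assoc, hθ]
  · refine (PerfectClosure.of (ResidueField W) p).injective ((hres _ r h).trans ((hε _).symm.trans ?_))
    exact congrArg _ (congrArg (residue W) (e.apply_symm_apply x))

/-- A Cohen ring maps to every complete local ring with the same residue field. -/
theorem exists_lift_complete {W : Type u} [CommRing W] [IsLocalRing W] (hW : CAlg.IsCohenRing W)
    {R : Type u} [CommRing R] (π : R →+* ResidueField W) (hπ : Function.Surjective π)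
    [IsAdicComplete (RingHom.ker π) R] : ∃ θ : W →+* R, ∀ x, π (θ x) = residue W x := by
  obtain ⟨θ, hθ, hres⟩ := exists_lift_family hW π hπ
  have hmono : StrictMono (fun n : ℕ => n + 1) := fun a b h => Nat.succ_lt_succ h
  exact ⟨IsAdicComplete.StrictMono.liftRingHom (RingHom.ker π) hmono θ hθ, fun x =>
    hres x _ (IsAdicComplete.StrictMono.mk_liftRingHom (RingHom.ker π) hmono θ hθ (n := 0) x)⟩

/-- Every ideal of a complete Noetherian local ring is adically complete. -/
theorem isAdicComplete_ideal {C : Type u} [CommRing C] [IsLocalRing C] [IsNoetherianRing C]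
    [IsAdicComplete (maximalIdeal C) C] (J : Ideal C) (hJ : J ≠ ⊤) : IsAdicComplete J C := by
  have hle : J ≤ maximalIdeal C := le_maximalIdeal hJ
  refine { haus' := fun x hx => IsHausdorff.haus (I := maximalIdeal C) inferInstance x fun n => ?_,
           prec' := fun f hf => ?_ }
  · have := hx n
    rw [SModEq.sub_mem, smul_eq_mul, Ideal.mul_top] at this ⊢
    exact Ideal.pow_right_mono hle n this
  · obtain ⟨L, hL⟩ := IsPrecomplete.prec (I := maximalIdeal C) inferInstance (f := f) fun {m n} hmn => by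
      have := hf hmn
      rw [SModEq.sub_mem, smul_eq_mul, Ideal.mul_top] at this ⊢
      exact Ideal.pow_right_mono hle m this
    refine ⟨L, fun n => ?_⟩
    rw [SModEq.sub_mem, smul_eq_mul, Ideal.mul_top]
    by_cases htop : J ^ n = ⊤
    · simp [htop]
    haveI : Nontrivial (C ⧸ J ^ n) := Ideal.Quotient.nontrivial_iff.mpr htop
    haveI : IsLocalRing (C ⧸ J ^ n) :=
      IsLocalRing.of_surjective' (Ideal.Quotient.mk (J ^ n)) Ideal.Quotient.mk_surjective
    haveI : IsLocalHom (Ideal.Quotient.mk (J ^ n)) := IsLocalHom.of_surjective _ Ideal.Quotient.mk_surjective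
    have hk : ∀ k, Ideal.Quotient.mk (J ^ n) (f n - L) ∈ maximalIdeal (C ⧸ J ^ n) ^ k := fun k => by
      have h1 := hf (le_max_left n k)
      have h2 := hL (max n k)
      rw [SModEq.sub_mem, smul_eq_mul, Ideal.mul_top] at h1 h2
      rw [← sub_add_sub_cancel (f n) (f (max n k)) L, map_add, (Ideal.Quotient.eq_zero_iff_mem).mpr h1, zero_add,
        ← IsLocalRing.map_maximalIdeal_of_surjective _ Ideal.Quotient.mk_surjective, ← Ideal.map_pow]
      exact Ideal.mem_map_of_mem _ (Ideal.pow_le_pow_right (le_max_right n k) h2)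
    have h0 : Ideal.Quotient.mk (J ^ n) (f n - L) ∈ ⨅ k, maximalIdeal (C ⧸ J ^ n) ^ k := Ideal.mem_iInf.mpr hk
    rw [Ideal.iInf_pow_eq_bot_of_isLocalRing _ (maximalIdeal.isMaximal _).ne_top, Submodule.mem_bot,
      Ideal.Quotient.eq_zero_iff_mem] at h0
    exact h0

/-- One step of lifting. -/
theorem exists_lift_step {F : Type v} {W C : Type u} [CommRing F] [CommRing W] [CommRing C] [Algebra F W]
    [Algebra F C] [Algebra.FormallySmooth F W] (I K : Ideal C) (hIK : I ≤ K) (hsq : K ^ 2 ≤ I)
    (w : W →ₐ[F] C ⧸ K) :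
    ∃ w' : W →ₐ[F] C ⧸ I, (Ideal.Quotient.factor hIK).comp w'.toRingHom = w.toRingHom := by
  have hs : Function.Surjective (Ideal.Quotient.factorₐ F hIK) := Ideal.Quotient.factor_surjective hIK
  have hker : RingHom.ker (Ideal.Quotient.factorₐ F hIK : C ⧸ I →+* C ⧸ K) = K.map (Ideal.Quotient.mk I) :=
    Ideal.Quotient.factor_ker hIK
  have hnil : IsNilpotent (RingHom.ker (Ideal.Quotient.factorₐ F hIK : C ⧸ I →+* C ⧸ K)) := by
    refine ⟨2, ?_⟩
    rw [hker, ← Ideal.map_pow, Ideal.zero_eq_bot, Ideal.map_eq_bot_iff_le_ker, Ideal.mk_ker]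
    exact hsq
  exact ⟨Algebra.FormallySmooth.liftOfSurjective w _ hs hnil, RingHom.ext fun x =>
    Algebra.FormallySmooth.liftOfSurjective_apply w _ hs hnil x⟩

/-- A map out of a formally smooth algebra lifts along a quotient of a complete ring. -/
theorem exists_lift_formallySmooth {F : Type v} {W C : Type u} [CommRing F] [CommRing W] [CommRing C] [Algebra F W]
    [Algebra F C] [Algebra.FormallySmooth F W] (J : Ideal C) [IsAdicComplete J C] (u : W →ₐ[F] C ⧸ J) :
    ∃ v : W →ₐ[F] C, (Ideal.Quotient.mkₐ F J).comp v = u := by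
  have step : ∀ n (w : W →ₐ[F] C ⧸ J ^ (n + 1)), ∃ w' : W →ₐ[F] C ⧸ J ^ (n + 1 + 1),
      (Ideal.Quotient.factorPow J (show n + 1 ≤ n + 1 + 1 by omega)).comp w'.toRingHom = w.toRingHom := fun n w =>
    exists_lift_step _ _ (Ideal.pow_le_pow_right (show n + 1 ≤ n + 1 + 1 by omega))
      (by rw [← pow_mul]; exact Ideal.pow_le_pow_right (by omega)) w
  choose next hnext using step
  let e0 : C ⧸ J →ₐ[F] C ⧸ J ^ (0 + 1) :=
    (Ideal.quotientEquivAlgOfEq F (by rw [zero_add, pow_one] : J = J ^ (0 + 1))).toAlgHom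
  let w : ∀ n, W →ₐ[F] C ⧸ J ^ (n + 1) := fun n => n.rec (e0.comp u) fun n a => next n a
  have hmono : StrictMono (fun n : ℕ => n + 1) := fun a b h => Nat.succ_lt_succ h
  have hcompat : ∀ {j : ℕ}, (Ideal.Quotient.factorPow J (Nat.succ_le_succ j.le_succ)).comp
      (w (j + 1)).toRingHom = (w j).toRingHom := fun {j} => by
    exact hnext j (w j)
  have hv := fun n => IsAdicComplete.StrictMono.mk_liftRingHom J hmono (fun n => (w n).toRingHom) hcompat (n := n)
  refine ⟨{ IsAdicComplete.StrictMono.liftRingHom J hmono (fun n => (w n).toRingHom) hcompat with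
    commutes' := fun r => ?_ }, AlgHom.ext fun x => ?_⟩
  · refine eq_of_sub_eq_zero (IsHausdorff.haus (I := J) inferInstance _ fun n => ?_)
    rw [SModEq.sub_mem, sub_zero, smul_eq_mul, Ideal.mul_top]
    refine Ideal.pow_le_pow_right (show n ≤ n + 1 by omega) (Ideal.Quotient.eq.mp ?_)
    exact (hv n (algebraMap F W r)).trans ((w n).commutes r)
  · exact Ideal.quotientEquivAlgOfEq F (by rw [zero_add, pow_one] : J = J ^ (0 + 1)) |>.injective
      (hv 0 x)

end Groth.Agent.EGA41Cohen
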