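import Groth.Agent.Cohen.CohenRing

/-!
# Maps from the Cohen ring modulo powers of the kernel, with no completeness hypothesis
-/

set_option autoImplicit false
set_option linter.style.haveILetI false
universe u

open WittVector Groth.Agent.Cohen

namespace Groth.Agent.EGA41Cohen

noncomputable section

variable (p : ℕ) [hp : Fact p.Prime] {k : Type u} [Field k] [CharP k p] {B : Set k} (hind : ∀ m, Indep p m B)
include hind

local notation "W" => WittVector p (PerfectClosure k p)

theorem exists_lift_mod {R : Type u} [CommRing R] (π : R →+* k) (hπ : Function.Surjective π)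
    :
    ∃ θ : ∀ n : ℕ, C p B →+* R ⧸ RingHom.ker π ^ (n + 1),
      (∀ {j : ℕ}, (Ideal.Quotient.factorPow (RingHom.ker π) (Nat.succ_le_succ j.le_succ)).comp (θ (j + 1)) = θ j) ∧
      ∀ (x : C p B) (r : R), Ideal.Quotient.mk _ r = θ 0 x → PerfectClosure.of k p (π r) = (x : W).coeff 0 := by
  classical
  choose β hβ using fun b : ↥B => hπ (b : k)
  let m := RingHom.ker π
  have hev : ∀ n (F : MvPolynomial ↥B (WittVector p R)),
      ev p B π n F = ev p B (RingHom.id k) n (MvPolynomial.map (WittVector.map π) F) := fun n F => by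
    rw [ev, ev, MvPolynomial.eval₂Hom_map_hom, WittVector.map_id, RingHom.comp_id]
  have hsurj : ∀ n (G : MvPolynomial ↥B (WittVector p k)), ∃ F, ev p B π n F = ev p B (RingHom.id k) n G := fun n G => by
    obtain ⟨F, rfl⟩ := MvPolynomial.map_surjective _ (WittVector.map_surjective π hπ) G
    exact ⟨F, hev n F⟩
  let α : ∀ n, MvPolynomial ↥B (WittVector p R) →+* W ⧸ Ideal.span {(p : W) ^ (n + 1)} := fun n =>
    (Ideal.Quotient.mk _).comp (ev p B π n)
  let g : ∀ n, MvPolynomial ↥B (WittVector p R) →+* R ⧸ m ^ (n + 1) := fun n =>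
    (Ideal.Quotient.mk _).comp (evR p B β n)
  have hker : ∀ n, RingHom.ker (α n).rangeRestrict ≤ RingHom.ker (g n) := fun n F hF => by
    rw [RingHom.mem_ker] at hF ⊢
    refine Ideal.Quotient.eq_zero_iff_mem.mpr (evR_mem p π hind β hβ n F (Ideal.mem_span_singleton.mp ?_))
    exact Ideal.Quotient.eq_zero_iff_mem.mp (congrArg Subtype.val hF)
  have hC : ∀ n (x : C p B), Ideal.Quotient.mk (Ideal.span {(p : W) ^ (n + 1)}) (x : W) ∈ (α n).range := fun n x => by
    obtain ⟨y, ⟨G, rfl⟩, hy⟩ := (mem_C p B).mp x.2 n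
    obtain ⟨F, hF⟩ := hsurj n G
    refine ⟨F, (Ideal.Quotient.eq.mpr (Ideal.mem_span_singleton.mpr ?_)).symm⟩
    rwa [hF]
  let θn : ∀ n, C p B →+* R ⧸ m ^ (n + 1) := fun n =>
    ((α n).rangeRestrict.liftOfSurjective (α n).rangeRestrict_surjective ⟨g n, hker n⟩).comp
      (((Ideal.Quotient.mk _).comp (C p B).subtype).codRestrict (α n).range (hC n))
  have hθ : ∀ n (x : C p B) (F : MvPolynomial ↥B (WittVector p R)), (p : W) ^ (n + 1) ∣ (x : W) - ev p B π n F →
      θn n x = g n F := fun n x F h => by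
    show (α n).rangeRestrict.liftOfSurjective (α n).rangeRestrict_surjective ⟨g n, hker n⟩ ⟨_, hC n x⟩ = _
    rw [show (⟨_, hC n x⟩ : (α n).range) = (α n).rangeRestrict F from
      Subtype.ext (Ideal.Quotient.eq.mpr (Ideal.mem_span_singleton.mpr h))]
    exact RingHom.liftOfSurjective_comp_apply _ _ _ F
  have hex : ∀ n (x : C p B), ∃ F, (p : W) ^ (n + 1) ∣ (x : W) - ev p B π n F := fun n x => by
    obtain ⟨y, ⟨G, rfl⟩, hy⟩ := (mem_C p B).mp x.2 n
    obtain ⟨F, hF⟩ := hsurj n G
    exact ⟨F, by rwa [hF]⟩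
  have hcompat : ∀ {j : ℕ}, (Ideal.Quotient.factorPow m (Nat.succ_le_succ j.le_succ)).comp (θn (j + 1)) = θn j :=
    fun {j} => RingHom.ext fun x => by
      obtain ⟨F, hF⟩ := hex (j + 1) x
      rw [RingHom.comp_apply, hθ _ x F hF, hθ j x (MvPolynomial.map WittVector.frobenius F) ?_]
      · show Ideal.Quotient.factorPow m _ (Ideal.Quotient.mk _ (evR p B β (j + 1) F)) = Ideal.Quotient.mk _ _
        rw [Ideal.Quotient.factor_mk, evR_succ]
      · rw [← ev_succ]
        exact (pow_dvd_pow _ (Nat.le_succ _)).trans hF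
  refine ⟨θn, @hcompat, fun x r h1 => ?_⟩
  obtain ⟨F, hF⟩ := hex 0 x
  rw [hθ 0 x F hF, RingHom.comp_apply, Ideal.Quotient.eq, zero_add, pow_one, RingHom.mem_ker, map_sub, sub_eq_zero] at h1
  rw [h1]
  rw [zero_add, pow_one, ← Ideal.mem_span_singleton, mem_span_p_iff_coeff_zero_eq_zero] at hF
  have h2 : constantCoeff ((x : W) - ev p B π 0 F) = 0 := hF
  rw [map_sub, sub_eq_zero] at h2
  refine Eq.trans ?_ h2.symm
  show ((PerfectClosure.of k p).comp (π.comp (evR p B β 0))) F = (constantCoeff.comp (ev p B π 0)) F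
  congr 1
  refine MvPolynomial.ringHom_ext (fun c => ?_) fun b => ?_
  · simp only [ev, evR, RingHom.comp_apply, MvPolynomial.eval₂Hom_C]
    show _ = (phi p 0 (WittVector.map π c)).coeff 0
    simp [phi, map_coeff, iterateFrobenius_def, ghostComponent_apply, aeval_wittPolynomial]
  · simp only [ev, evR, RingHom.comp_apply, MvPolynomial.eval₂Hom_X', hβ]
    rfl

end

end Groth.Agent.EGA41Cohen
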